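import Groth.Agent.Lib.CMReg18.Resolution
import Groth.Agent.Lib.CMReg18.Linear
import Groth.Agent.Lib.VB17.Pair
import Groth.Agent.Lib.CurveCoh17.Pairing
import Groth.Agent.Lib.P1Split17.Basis
import Groth.Prelude.Def_KLin

/-!
# Maps out of twists and sections of twists on projective space

The linear bijection between maps out of a twist and sections of the opposite twist, and some vanishing lemmas.
-/

set_option autoImplicit false
set_option linter.style.haveILetI false
set_option linter.unusedSectionVars false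
set_option backward.isDefEq.respectTransparency false
set_option backward.isDefEq.respectTransparency.types false
set_option maxHeartbeats 1000000

universe u

open CategoryTheory CategoryTheory.Limits AlgebraicGeometry TopologicalSpace

noncomputable section

namespace Groth.Agent.Gaeta11

open Groth.Agent

variable {k : Type u} [Field k] {X : Scheme.{u}} [X.Over (Spec (CommRingCat.of k))]

local notation "HH" => Coh.HH X
local notation "𝒪" => Coh.structureModule X

theorem hom_structure_ext {M : X.Modules} {f g : 𝒪 ⟶ M} (h : f.app ⊤ (M1.one ⊤) = g.app ⊤ (M1.one ⊤)) : f = g := by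
  have key : ∀ a : 𝒪 ⟶ M, a = M1.secHom (a.app ⊤ (M1.one ⊤)) := fun a => M1.unit_hom_ext (M1.secHom_app_one _).symm
  rw [key f, key g, h]

/-- The value at one. -/
def val₀ {M : X.Modules} (f : 𝒪 ⟶ M) : Γ(M, ⊤) := f.app ⊤ (M1.one ⊤)

theorem val₀_smul (k : Type u) [Field k] [X.Over (Spec (CommRingCat.of k))] {M : X.Modules} (c : k) (f : 𝒪 ⟶ M) :
    val₀ (c • f) = (show Γ(X, ⊤) from Coh.toGlobal (X ↘ Spec (CommRingCat.of k)) c) • val₀ f := by
  refine (KLin.smul_app_apply c f ⊤ (M1.one ⊤)).trans ?_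
  exact congrArg (· • val₀ f) (ConcreteCategory.congr_hom (X.presheaf.map_id (Opposite.op ⊤)) _)

theorem hh0_symm_smul (k : Type u) [Field k] [X.Over (Spec (CommRingCat.of k))] (M : X.Modules) (c : k) (m : Γ(M, ⊤)) :
    (CurveCoh17.hh0 M).symm ((show Γ(X, ⊤) from Coh.toGlobal (X ↘ Spec (CommRingCat.of k)) c) • m) =
      c • (CurveCoh17.hh0 M).symm m := by
  apply (CurveCoh17.hh0 M).injective
  rw [AddEquiv.apply_symm_apply]
  refine Eq.trans ?_ (CurveCoh17.hh0_smul (M := M) (Coh.toGlobal (X ↘ Spec (CommRingCat.of k)) c) _).symm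
  rw [AddEquiv.apply_symm_apply]

/-- Maps out of the structure module are sections. -/
def homSecLin (k : Type u) [Field k] [X.Over (Spec (CommRingCat.of k))] (M : X.Modules) : (𝒪 ⟶ M) →ₗ[k] HH M 0 where
  toFun f := (CurveCoh17.hh0 M).symm (val₀ f)
  map_add' f g := map_add (CurveCoh17.hh0 M).symm (val₀ f) (val₀ g)
  map_smul' c f := (congrArg _ (val₀_smul k c f)).trans (hh0_symm_smul k M c _)

/-- Maps out of the structure module are sections, bijectively. -/
def homSec (k : Type u) [Field k] [X.Over (Spec (CommRingCat.of k))] (M : X.Modules) : (𝒪 ⟶ M) ≃ₗ[k] HH M 0 :=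
  LinearEquiv.ofBijective (homSecLin k M)
    ⟨fun f g h => hom_structure_ext ((CurveCoh17.hh0 M).symm.injective h),
      fun x => ⟨M1.secHom (CurveCoh17.hh0 M x),
        (congrArg (CurveCoh17.hh0 M).symm (M1.secHom_app_one _)).trans (AddEquiv.symm_apply_apply _ _)⟩⟩

theorem homSec_comp {M N : X.Modules} (f : 𝒪 ⟶ M) (g : M ⟶ N) :
    homSec k N (f ≫ g) = CurveCoh17.hmap k g 0 (homSec k M f) := by
  apply (CurveCoh17.hh0 N).injective
  show CurveCoh17.hh0 N ((CurveCoh17.hh0 N).symm ((f ≫ g).app ⊤ (M1.one ⊤))) =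
    CurveCoh17.hh0 N (CurveCoh17.hmap k g 0 ((CurveCoh17.hh0 M).symm (f.app ⊤ (M1.one ⊤))))
  rw [AddEquiv.apply_symm_apply, CurveCoh17.hh0_hmap, AddEquiv.apply_symm_apply]
  rfl

theorem linear_tensorR (L : X.Modules) : (M2.tensorR L).Linear k :=
  (Functor.linear_iff k _).mpr fun W c => by
    rw [KLin.smul_id, KLin.smul_id]
    exact CurveCoh17.tensorMap_smulModΓ W L _

/-- Tensoring with an invertible module is an equivalence on maps. -/
def tensorHom (k : Type u) [Field k] [X.Over (Spec (CommRingCat.of k))] (L : X.Modules) {L' : X.Modules}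
    (hL' : PicF.IsInvertible L') (M : X.Modules) :
    (L ⟶ M) ≃ₗ[k] (CohB1.tensorMod L L' ⟶ CohB1.tensorMod M L') :=
  haveI := linear_tensorR (k := k) L'
  haveI := VB17.isEquivalence_tensorR hL'
  LinearEquiv.ofBijective ((M2.tensorR L').mapLinearMap k)
    ⟨fun _ _ h => (M2.tensorR L').map_injective h, fun g => ⟨(M2.tensorR L').preimage g, (M2.tensorR L').map_preimage g⟩⟩

theorem tensorHom_apply (L : X.Modules) {L' : X.Modules} (hL' : PicF.IsInvertible L') (M : X.Modules) (f : L ⟶ M) :
    tensorHom k L hL' M f = (M2.tensorR L').map f := rfl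

/-- Maps out of an invertible module are sections of the opposite twist. -/
def twSec (k : Type u) [Field k] [X.Over (Spec (CommRingCat.of k))] {L L' : X.Modules} (hL' : PicF.IsInvertible L')
    (e : CohB1.tensorMod L L' ≅ 𝒪) (M : X.Modules) : (L ⟶ M) ≃ₗ[k] HH (CohB1.tensorMod M L') 0 :=
  (tensorHom k L hL' M).trans ((Linear.homCongr k e (Iso.refl _)).trans (homSec k _))

theorem twSec_comp {L L' : X.Modules} (hL' : PicF.IsInvertible L') (e : CohB1.tensorMod L L' ≅ 𝒪) {M N : X.Modules}
    (f : L ⟶ M) (g : M ⟶ N) :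
    twSec k hL' e N (f ≫ g) = CurveCoh17.hmap k ((M2.tensorR L').map g) 0 (twSec k hL' e M f) := by
  show homSec k _ ((Linear.homCongr k e (Iso.refl _)) (tensorHom k L hL' N (f ≫ g))) =
    CurveCoh17.hmap k _ 0 (homSec k _ ((Linear.homCongr k e (Iso.refl _)) (tensorHom k L hL' M f)))
  rw [← homSec_comp, tensorHom_apply, tensorHom_apply]
  congr 1
  simp [Linear.homCongr, Functor.map_comp]

theorem finite_hom {L L' : X.Modules} (hL' : PicF.IsInvertible L') (e : CohB1.tensorMod L L' ≅ 𝒪) (M : X.Modules)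
    (h : Module.Finite k (HH (CohB1.tensorMod M L') 0)) : Module.Finite k (L ⟶ M) :=
  Module.Finite.equiv (twSec k hL' e M).symm

theorem finrank_end {L L' : X.Modules} (hL' : PicF.IsInvertible L') (e : CohB1.tensorMod L L' ≅ 𝒪)
    (h : Module.finrank k (HH 𝒪 0) = 1) : Module.finrank k (L ⟶ L) = 1 := by
  rw [(twSec k hL' e L).finrank_eq, (CurveCoh17.hequiv k e 0).finrank_eq, h]

theorem exists_smul_id {L : X.Modules} (h : Module.finrank k (L ⟶ L) = 1) (f : L ⟶ L) : ∃ c : k, f = c • 𝟙 L := by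
  have hne : (𝟙 L : L ⟶ L) ≠ 0 := fun h0 => by
    haveI : Subsingleton (L ⟶ L) := subsingleton_of_forall_eq 0 fun g => by rw [← Category.id_comp g, h0, zero_comp]
    rw [Module.finrank_zero_of_subsingleton] at h
    omega
  obtain ⟨c, hc⟩ := (finrank_eq_one_iff_of_nonzero' _ hne).1 h f
  exact ⟨c, hc.symm⟩

/-- Surjectivity on sections from surjectivity on maps. -/
theorem surjective_hmap_of_hom {L L' : X.Modules} (hL' : PicF.IsInvertible L') (e : CohB1.tensorMod L L' ≅ 𝒪)
    {M N : X.Modules} (g : M ⟶ N) (h : ∀ f : L ⟶ N, ∃ a : L ⟶ M, a ≫ g = f) :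
    Function.Surjective (CurveCoh17.hmap k ((M2.tensorR L').map g) 0) := fun y => by
  obtain ⟨f, rfl⟩ := (twSec k hL' e N).surjective y
  obtain ⟨a, rfl⟩ := h f
  exact ⟨_, (twSec_comp hL' e a g).symm⟩

variable (k)
include k

/-- Vanishing passes to finite sums. -/
theorem van_sum (G : X.Modules ⥤ X.Modules) [G.Additive] {r : ℕ} (F : Fin r → X.Modules) (n : ℕ)
    (h : ∀ i, Subsingleton (HH (G.obj (F i)) n)) : Subsingleton (HH (G.obj (∐ F)) n) := by
  refine subsingleton_of_forall_eq 0 fun x => ?_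
  rw [← CurveCoh17.hmap_id k (G.obj (∐ F)) n x, ← G.map_id, ← P1Split.sum_proj_ι F, G.map_sum, CMReg18.hmap_sum]
  refine Finset.sum_eq_zero fun j _ => ?_
  rw [Functor.map_comp, CurveCoh17.hmap_comp, (h j).elim (CurveCoh17.hmap k (G.map (P1Split.proj F j)) n x) 0, map_zero]

/-- Vanishing passes to binary sums. -/
theorem van_biprod (G : X.Modules ⥤ X.Modules) [G.Additive] {A B : X.Modules} (n : ℕ)
    (hA : Subsingleton (HH (G.obj A) n)) (hB : Subsingleton (HH (G.obj B) n)) :
    Subsingleton (HH (G.obj (A ⊞ B)) n) := by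
  refine subsingleton_of_forall_eq 0 fun x => ?_
  rw [← CurveCoh17.hmap_id k (G.obj (A ⊞ B)) n x, ← G.map_id, ← biprod.total, G.map_add, CMReg18.hmap_add,
    Functor.map_comp, Functor.map_comp, CurveCoh17.hmap_comp, CurveCoh17.hmap_comp,
    hA.elim (CurveCoh17.hmap k (G.map biprod.fst) n x) 0, hB.elim (CurveCoh17.hmap k (G.map biprod.snd) n x) 0,
    map_zero, map_zero, add_zero]

variable {S : ShortComplex X.Modules}

/-- The quotient has no cohomology when its neighbours have none. -/
theorem van_quot (hS : S.ShortExact) (p : ℕ) (h₂ : Subsingleton (HH S.X₂ p)) (h₁ : Subsingleton (HH S.X₁ (p + 1))) :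
    Subsingleton (HH S.X₃ p) := by
  refine subsingleton_of_forall_eq 0 fun z => ?_
  obtain ⟨y, rfl⟩ := (CurveCoh17.exact_hmap_hdelta k hS p z).1 (h₁.elim _ _)
  exact (congrArg _ (h₂.elim y 0)).trans (map_zero _)

/-- Surjectivity on cohomology below a vanishing group. -/
theorem surjective_quot (hS : S.ShortExact) (p : ℕ) (h₁ : Subsingleton (HH S.X₁ (p + 1))) :
    Function.Surjective (CurveCoh17.hmap k S.g p) := fun z =>
  (CurveCoh17.exact_hmap_hdelta k hS p z).1 (h₁.elim _ _)

/-- The subobject has no cohomology when the quotient map is onto one degree below. -/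
theorem van_sub (hS : S.ShortExact) (p : ℕ) (h₂ : Subsingleton (HH S.X₂ (p + 1)))
    (hs : Function.Surjective (CurveCoh17.hmap k S.g p)) : Subsingleton (HH S.X₁ (p + 1)) := by
  refine subsingleton_of_forall_eq 0 fun w => ?_
  obtain ⟨z, rfl⟩ := (CurveCoh17.exact_hdelta_hmap k hS p w).1 (h₂.elim _ _)
  exact (CurveCoh17.exact_hmap_hdelta k hS p z).2 (hs z)

end Groth.Agent.Gaeta11

end
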