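import Groth.Agent.Lib.Gaeta11.Basic
import Groth.Agent.Lib.ModM1.FibreProd
import Mathlib.LinearAlgebra.TensorProduct.Basis

/-!
# Gaeta resolutions on the projective plane

A coherent module has a resolution by sums of `O(-2)`, `O(-1)`, `O` of the expected shape exactly when six
cohomology groups vanish and multiplication by linear forms is injective on sections.
-/

set_option autoImplicit false
set_option linter.style.haveILetI false
set_option linter.unusedSectionVars false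
set_option backward.isDefEq.respectTransparency false
set_option backward.isDefEq.respectTransparency.types false
set_option maxHeartbeats 1000000
set_option synthInstance.maxHeartbeats 400000

universe u

open CategoryTheory CategoryTheory.Limits AlgebraicGeometry TopologicalSpace

noncomputable section

namespace Groth.Agent.Gaeta11

open Groth.Agent

variable (k : Type u) [Field k]

local notation "PP" => CohB1.ProjSpace 2 k
local notation "O₀" => Coh.structureModule (CohB1.ProjSpace 2 k)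
local notation "O₁" => _root_.Twist.twistProjSpace 2 k (-1)
local notation "O₂" => _root_.Twist.twistProjSpace 2 k (-2)
local notation "D" => CMReg18.projData k 2
local notation "HH" => Coh.HH (CohB1.ProjSpace 2 k)

theorem hom_sum {L M : (PP).Modules} {a : ℕ} (f : L ⟶ ∐ fun _ : Fin a => M) :
    f = ∑ i, (f ≫ P1Split.proj (fun _ : Fin a => M) i) ≫ Sigma.ι (fun _ : Fin a => M) i := by
  conv_lhs => rw [← Category.comp_id f, ← P1Split.sum_proj_ι (fun _ : Fin a => M), Preadditive.comp_sum]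
  simp only [Category.assoc]

theorem hom_sum_smul {L : (PP).Modules} (hL : Module.finrank k (L ⟶ L) = 1) {a : ℕ}
    (f : L ⟶ ∐ fun _ : Fin a => L) :
    ∃ c : Fin a → k, f = ∑ i, c i • Sigma.ι (fun _ : Fin a => L) i := by
  choose c hc using fun i => exists_smul_id hL (f ≫ P1Split.proj (fun _ : Fin a => L) i)
  refine ⟨c, (hom_sum k f).trans (Finset.sum_congr rfl fun i _ => ?_)⟩
  rw [hc i, Linear.smul_comp, Category.id_comp]

/-- The evaluation map on a basis of maps is bijective on maps. -/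
theorem bijective_basis {L M : (PP).Modules} (hL : Module.finrank k (L ⟶ L) = 1) {a : ℕ}
    (b : Module.Basis (Fin a) k (L ⟶ M)) :
    Function.Bijective (fun f : L ⟶ ∐ fun _ : Fin a => L => f ≫ Sigma.desc fun i => b i) := by
  refine ⟨fun f g h => sub_eq_zero.1 ?_, fun f => ⟨∑ i, b.repr f i • Sigma.ι (fun _ : Fin a => L) i, ?_⟩⟩
  · obtain ⟨c, hc⟩ := hom_sum_smul k hL (f - g)
    have h0 : (f - g) ≫ Sigma.desc (fun i => b i) = 0 := by rw [Preadditive.sub_comp]; exact sub_eq_zero.2 h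
    rw [hc, Preadditive.sum_comp] at h0
    have hz : ∀ i, c i = 0 := Fintype.linearIndependent_iff.1 b.linearIndependent c (by
      rw [← h0]
      refine Finset.sum_congr rfl fun i _ => ?_
      rw [Linear.smul_comp, Sigma.ι_desc])
    rw [hc]
    exact Finset.sum_eq_zero fun i _ => by rw [hz i, zero_smul]
  · show _ ≫ _ = f
    rw [Preadditive.sum_comp]
    simp only [Linear.smul_comp, Sigma.ι_desc]
    exact b.sum_repr f

def pairIso (b c : ℤ) (h : b + c = 0) : CohB1.tensorMod ((D).O b) ((D).O c) ≅ O₀ :=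
  (D).add b c ≪≫ eqToIso (by rw [h]) ≪≫ (D).zero

def pairIso₀ : CohB1.tensorMod O₀ ((D).O 0) ≅ O₀ := M2.tensorLUnit _ ≪≫ (D).zero

def twZero (M : (PP).Modules) : (D).tw M 0 ≅ M := M2.tensorIso (Iso.refl M) (D).zero ≪≫ M2.tensorRUnit M

theorem finite_tw {M : (PP).Modules} (hM : Coh.IsCoh M) (a : ℤ) (i : ℕ) : Module.Finite k (HH ((D).tw M a) i) := by
  haveI := CMReg18.isProper_projSpace k (n := 2)
  exact (D).finite_HH k hM a i

theorem finrank_O₁ : Module.finrank k (O₁ ⟶ O₁) = 1 :=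
  finrank_end ((D).inv 1) (pairIso k (-1) 1 (by norm_num)) (CMReg18.finrank_h0_structure k 2)

theorem finrank_O₂ : Module.finrank k (O₂ ⟶ O₂) = 1 :=
  finrank_end ((D).inv 2) (pairIso k (-2) 2 (by norm_num)) (CMReg18.finrank_h0_structure k 2)

theorem finrank_O₀ : Module.finrank k (O₀ ⟶ O₀) = 1 :=
  finrank_end ((D).inv 0) (pairIso₀ k) (CMReg18.finrank_h0_structure k 2)

/-- The vanishing for a twist. -/
theorem van_O (a j : ℤ) (i : ℕ) (h₀ : ¬ (i = 0 ∧ 0 ≤ a + j)) (h₂ : ¬ (i = 2 ∧ a + j ≤ -3)) :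
    Subsingleton (HH ((D).tw (_root_.Twist.twistProjSpace 2 k a) j) i) :=
  CMReg18.van_iso k ((D).add a j).symm (S0844.result k 2 (a + j) i h₀ (by push_cast; omega))

theorem van_O_sum (a j : ℤ) (r i : ℕ) (h₀ : ¬ (i = 0 ∧ 0 ≤ a + j)) (h₂ : ¬ (i = 2 ∧ a + j ≤ -3)) :
    Subsingleton (HH ((D).tw (∐ fun _ : Fin r => _root_.Twist.twistProjSpace 2 k a) j) i) :=
  van_sum k (M2.tensorR ((D).O j)) _ i fun _ => van_O k a j i h₀ h₂

theorem van_unit_sum (j : ℤ) (r i : ℕ) (h₀ : ¬ (i = 0 ∧ 0 ≤ j)) (h₂ : ¬ (i = 2 ∧ j ≤ -3)) :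
    Subsingleton (HH ((D).tw (∐ fun _ : Fin r => O₀) j) i) :=
  van_sum k (M2.tensorR ((D).O j)) _ i fun _ =>
    CMReg18.van_iso k (M2.tensorLUnit _).symm (S0844.result k 2 j i h₀ (by push_cast; omega))

/-- The middle term of a Gaeta resolution. -/
abbrev Bmod (α₂ α₃ : ℕ) : (PP).Modules := (∐ fun _ : Fin α₂ => O₁) ⊞ (∐ fun _ : Fin α₃ => O₀)

theorem van_B (α₂ α₃ : ℕ) (j : ℤ) (i : ℕ) (h₀ : ¬ (i = 0 ∧ 0 ≤ j)) (h₂ : ¬ (i = 2 ∧ j ≤ -2)) :
    Subsingleton (HH ((D).tw (Bmod k α₂ α₃) j) i) :=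
  van_biprod k (M2.tensorR ((D).O j)) i (van_O_sum k (-1) j α₂ i (by omega) (by omega))
    (van_unit_sum k j α₃ i h₀ (by omega))

theorem hom_O₁_O₂_sum (r : ℕ) : Subsingleton (O₁ ⟶ ∐ fun _ : Fin r => O₂) :=
  haveI := van_O_sum k (-2) 1 r 0 (by omega) (by omega)
  (twSec k ((D).inv 1) (pairIso k (-1) 1 (by norm_num)) _).toEquiv.subsingleton

theorem hom_O₀_O₁_sum (r : ℕ) : Subsingleton (O₀ ⟶ ∐ fun _ : Fin r => O₁) :=
  haveI := van_O_sum k (-1) 0 r 0 (by omega) (by omega)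
  (twSec k ((D).inv 0) (pairIso₀ k) _).toEquiv.subsingleton

theorem isCoh_tw {M : (PP).Modules} (hM : Coh.IsCoh M) (a : ℤ) : Coh.IsCoh ((D).tw M a) :=
  CurveCoh17.isCoh_tensor hM (Snapper.isCoh_of_isInvertible ((D).inv a))

theorem isNoetherian_PP : AlgebraicGeometry.IsNoetherian PP := by
  haveI := CMReg18.isProper_projSpace k (n := 2)
  exact CohFound.isNoetherian_of_isProper (PP ↘ Spec (CommRingCat.of k))

theorem isCoh_sum {M : (PP).Modules} (hM : PicF.IsInvertible M) (r : ℕ) : Coh.IsCoh (∐ fun _ : Fin r => M) := by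
  haveI := isNoetherian_PP k
  exact CohFound.isCoh_of_iso (M2.freeModTensorIso _ r M) (CurveCoh17.isCoh_tensor
    (CurveCoh17.isCoh_of_ofRank (M2.isFinLocFreeOfRank_freeMod _ r)) (Snapper.isCoh_of_isInvertible hM))

theorem isCoh_B (α₂ α₃ : ℕ) : Coh.IsCoh (Bmod k α₂ α₃) := by
  haveI := isNoetherian_PP k
  exact M1.isCoh_biprod (isCoh_sum k (Twist.isInvertible_twistProjSpace 2 k (-1)) α₂)
    (CurveCoh17.isCoh_of_ofRank (M2.isFinLocFreeOfRank_freeMod _ α₃))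

variable {k}

/-- Maps `O(a) → M` for a `(-a)`-regular module are generated by any family hitting them all. -/
theorem epi_of_surjective_hom {M B : (PP).Modules} (hM : Coh.IsCoh M) (φ : B ⟶ M) (m : ℤ)
    (hm : (D).IsReg M m)
    (h : ∀ f : (_root_.Twist.twistProjSpace 2 k (-m)) ⟶ M, ∃ a, a ≫ φ = f) : Epi φ := by
  haveI := CMReg18.isProper_projSpace k (n := 2)
  obtain ⟨b, ψ, hψ, -⟩ := (D).exists_presentation (k := k) hM m (CMReg18.isGloballyGenerated_of_isReg hM hm)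
  choose a ha using fun i => h (Sigma.ι (fun _ : Fin b => (D).O (-m)) i ≫ ψ)
  have hc : Sigma.desc a ≫ φ = ψ := Sigma.hom_ext _ _ fun i => by rw [← Category.assoc, Sigma.ι_desc]; exact ha i
  haveI := hψ
  exact epi_of_epi_fac hc

/-- The kernel of a cover by `O(-2)` of a two-regular module with no kernel on sections vanishes. -/
theorem isIso_of_reg {K : (PP).Modules} {r : ℕ} (hK : Coh.IsCoh K) (ψ : (∐ fun _ : Fin r => O₂) ⟶ K) [Epi ψ]
    (hinj : ∀ f : O₂ ⟶ ∐ fun _ : Fin r => O₂, f ≫ ψ = 0 → f = 0)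
    (h0 : Subsingleton (HH ((D).tw K 1) 0)) (h1 : Subsingleton (HH ((D).tw K 0) 1)) : IsIso ψ := by
  haveI := isNoetherian_PP k
  let S : ShortComplex (PP).Modules := ShortComplex.mk (kernel.ι ψ) ψ (kernel.condition ψ)
  have hS : S.ShortExact := { exact := ShortComplex.exact_kernel ψ }
  have hq : Coh.IsQCoh S.X₁ :=
    M1.isQCoh_kernel (isCoh_sum k (Twist.isInvertible_twistProjSpace 2 k (-2)) r).1 hK.1 ψ
  have hc : Coh.IsCoh S.X₁ := M1.isCoh_of_mono (kernel.ι ψ) (isCoh_sum k (Twist.isInvertible_twistProjSpace 2 k (-2)) r) hq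
  have hreg : (D).IsReg S.X₁ 2 := by
    rw [← CMReg18.isMRegular_iff k hq]
    intro i hi hi2
    obtain rfl | rfl : i = 1 ∨ i = 2 := by omega
    · rw [show (2 : ℤ) - ((1 : ℕ) : ℤ) = 1 by norm_num]
      exact van_sub k ((D).shortExact_tw hS 1) 0
        (van_O_sum k (-2) _ r 1 (by omega) (by omega)) fun y => ⟨0, h0.elim _ _⟩
    · rw [show (2 : ℤ) - ((2 : ℕ) : ℤ) = 0 by norm_num]
      exact van_sub k ((D).shortExact_tw hS 0) 1
        (van_O_sum k (-2) _ r 2 (by omega) (by omega)) fun y => ⟨0, h1.elim _ _⟩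
  have h2 : Subsingleton (HH ((D).tw S.X₁ 2) 0) := by
    haveI : Subsingleton ((D).O (-2) ⟶ S.X₁) := subsingleton_of_forall_eq 0 fun f => by
      have h := hinj (f ≫ kernel.ι ψ) (by rw [Category.assoc, kernel.condition, comp_zero])
      rw [← cancel_mono (kernel.ι ψ), zero_comp, h]
    exact (twSec k ((D).inv 2) (pairIso k (-2) 2 (by norm_num)) S.X₁).toEquiv.symm.subsingleton
  have hz : (𝟙 ((D).tw S.X₁ 2) : (D).tw S.X₁ 2 ⟶ (D).tw S.X₁ 2) = 0 :=
    CMReg18.eq_zero_of_kills (CMReg18.isGloballyGenerated_of_isReg hc hreg) fun t =>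
      (CurveCoh17.hh0 ((D).tw S.X₁ 2)).symm.injective (h2.elim _ _)
  haveI := VB17.isEquivalence_tensorR ((D).inv 2)
  have hz' : IsZero S.X₁ := (IsZero.iff_id_eq_zero _).2
    ((M2.tensorR ((D).O 2)).map_injective (by rw [CategoryTheory.Functor.map_id, CategoryTheory.Functor.map_zero]; exact hz))
  haveI : Mono ψ := Preadditive.mono_of_kernel_zero (hz'.eq_of_src _ _)
  exact isIso_of_mono_of_epi ψ

/-- The forward direction. -/
theorem forward {F : (PP).Modules} {α₁ α₂ α₃ : ℕ} {S : ShortComplex (PP).Modules} (hS : S.ShortExact)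
    (e₁ : S.X₁ ≅ ∐ fun _ : Fin α₁ => O₂) (e₂ : S.X₂ ≅ Bmod k α₂ α₃) (e₃ : S.X₃ ≅ F) :
    Subsingleton (HH ((D).tw F (-1)) 0) ∧ Subsingleton (HH ((D).tw F (-1)) 2) ∧
      Subsingleton (HH F 1) ∧ Subsingleton (HH F 2) ∧
      Subsingleton (HH ((D).tw F 1) 1) ∧ Subsingleton (HH ((D).tw F 1) 2) ∧
      Function.Injective (TensorProduct.lift
        (CategoryTheory.Linear.comp O₁ O₀ F : (O₁ ⟶ O₀) →ₗ[k] (O₀ ⟶ F) →ₗ[k] (O₁ ⟶ F))) := by
  have hA : ∀ j i, ¬ (i = 0 ∧ 0 ≤ -2 + j) → ¬ (i = 2 ∧ -2 + j ≤ -3) →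
      Subsingleton (HH ((D).tw S.X₁ j) i) := fun j i h₀ h₂ =>
    CMReg18.van_iso k ((M2.tensorR ((D).O j)).mapIso e₁).symm (van_O_sum k (-2) j α₁ i h₀ h₂)
  have hB : ∀ j i, ¬ (i = 0 ∧ 0 ≤ j) → ¬ (i = 2 ∧ j ≤ -2) →
      Subsingleton (HH ((D).tw S.X₂ j) i) := fun j i h₀ h₂ =>
    CMReg18.van_iso k ((M2.tensorR ((D).O j)).mapIso e₂).symm (van_B k α₂ α₃ j i h₀ h₂)
  have hF : ∀ j i, Subsingleton (HH ((D).tw S.X₂ j) i) → Subsingleton (HH ((D).tw S.X₁ j) (i + 1)) →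
      Subsingleton (HH ((D).tw F j) i) := fun j i h h' =>
    CMReg18.van_iso k ((M2.tensorR ((D).O j)).mapIso e₃) (van_quot k ((D).shortExact_tw hS j) i h h')
  refine ⟨hF _ _ (hB _ _ (by omega) (by omega)) (hA _ _ (by omega) (by omega)),
    hF _ _ (hB _ _ (by omega) (by omega)) (hA _ _ (by omega) (by omega)),
    CMReg18.van_iso k (twZero k F) (hF 0 1 (hB _ _ (by omega) (by omega)) (hA _ _ (by omega) (by omega))),
    CMReg18.van_iso k (twZero k F) (hF 0 2 (hB _ _ (by omega) (by omega)) (hA _ _ (by omega) (by omega))),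
    hF _ _ (hB _ _ (by omega) (by omega)) (hA _ _ (by omega) (by omega)),
    hF _ _ (hB _ _ (by omega) (by omega)) (hA _ _ (by omega) (by omega)), ?_⟩
  let g : Bmod k α₂ α₃ ⟶ F := e₂.inv ≫ S.g ≫ e₃.hom
  haveI := hS.mono_f
  have hg_inj : ∀ f : O₁ ⟶ Bmod k α₂ α₃, f ≫ g = 0 → f = 0 := fun f hf => by
    have h0 : (f ≫ e₂.inv) ≫ S.g = 0 := by
      rw [← cancel_mono e₃.hom, zero_comp, Category.assoc, Category.assoc]
      exact hf
    obtain ⟨l, hl⟩ : ∃ l : O₁ ⟶ S.X₁, l ≫ S.f = f ≫ e₂.inv :=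
      ⟨hS.exact.lift _ h0, hS.exact.lift_f _ h0⟩
    have hl0 : l ≫ e₁.hom = 0 := (hom_O₁_O₂_sum k α₁).elim _ _
    rw [← cancel_mono e₂.inv, zero_comp, ← hl, ← Category.comp_id l, ← e₁.hom_inv_id, ← Category.assoc l, hl0,
      zero_comp, zero_comp]
  have hg_surj : ∀ s : O₀ ⟶ F, ∃ c : Fin α₃ → k, s = ∑ j, c j •
      (Sigma.ι (fun _ : Fin α₃ => O₀) j ≫ biprod.inr ≫ g) := fun s => by
    obtain ⟨y, hy⟩ := surjective_quot k ((D).shortExact_tw hS 0) 0 (hA 0 1 (by omega) (by omega))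
      (twSec k ((D).inv 0) (pairIso₀ k) S.X₃ (s ≫ e₃.inv))
    obtain ⟨a, rfl⟩ := (twSec k ((D).inv 0) (pairIso₀ k) S.X₂).surjective y
    have ha : a ≫ S.g = s ≫ e₃.inv :=
      (twSec k ((D).inv 0) (pairIso₀ k) S.X₃).injective ((twSec_comp _ _ a S.g).trans hy)
    obtain ⟨c, hc⟩ := hom_sum_smul k (finrank_O₀ k) ((a ≫ e₂.hom) ≫ biprod.snd)
    refine ⟨c, ?_⟩
    have h1 : a ≫ e₂.hom = ((a ≫ e₂.hom) ≫ biprod.snd) ≫ biprod.inr := by
      conv_lhs => rw [← Category.comp_id (a ≫ e₂.hom), ← biprod.total, Preadditive.comp_add, ← Category.assoc,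
        (hom_O₀_O₁_sum k α₂).elim ((a ≫ e₂.hom) ≫ biprod.fst) 0, zero_comp, zero_add, ← Category.assoc]
    have h2 : s = (a ≫ e₂.hom) ≫ g := by
      simp only [g, Category.assoc, Iso.hom_inv_id_assoc]
      rw [reassoc_of% ha, Iso.inv_hom_id, Category.comp_id]
    rw [h2, h1, hc, Preadditive.sum_comp, Preadditive.sum_comp]
    exact Finset.sum_congr rfl fun j _ => by rw [Linear.smul_comp, Linear.smul_comp, Category.assoc]
  let gj : Fin α₃ → (O₀ ⟶ F) := fun j => Sigma.ι (fun _ : Fin α₃ => O₀) j ≫ biprod.inr ≫ g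
  let μ := TensorProduct.lift
    (CategoryTheory.Linear.comp O₁ O₀ F : (O₁ ⟶ O₀) →ₗ[k] (O₀ ⟶ F) →ₗ[k] (O₁ ⟶ F))
  have hrep : ∀ t : TensorProduct k (O₁ ⟶ O₀) (O₀ ⟶ F), ∃ ψ : Fin α₃ → (O₁ ⟶ O₀), t = ∑ j, ψ j ⊗ₜ gj j := by
    intro t
    induction t using TensorProduct.induction_on with
    | zero => exact ⟨0, by simp⟩
    | add a b ha hb =>
      obtain ⟨p, rfl⟩ := ha
      obtain ⟨q, rfl⟩ := hb
      exact ⟨p + q, by simp [TensorProduct.add_tmul, Finset.sum_add_distrib]⟩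
    | tmul x s =>
      obtain ⟨c, hc⟩ := hg_surj s
      refine ⟨fun j => c j • x, ?_⟩
      rw [hc, TensorProduct.tmul_sum]
      exact Finset.sum_congr rfl fun j _ => by rw [TensorProduct.tmul_smul, TensorProduct.smul_tmul']
  refine (injective_iff_map_eq_zero μ).2 fun t ht => ?_
  obtain ⟨ψ, rfl⟩ := hrep t
  have h1 : (∑ j, ψ j ≫ Sigma.ι (fun _ : Fin α₃ => O₀) j) ≫ (biprod.inr : _ ⟶ Bmod k α₂ α₃) = 0 := by
    refine hg_inj _ ?_
    rw [← ht, map_sum, Preadditive.sum_comp, Preadditive.sum_comp]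
    exact Finset.sum_congr rfl fun j _ => by
      show ((ψ j ≫ _) ≫ _) ≫ g = ψ j ≫ gj j
      simp only [gj, Category.assoc]
  have h2 : ∑ j, ψ j ≫ Sigma.ι (fun _ : Fin α₃ => O₀) j = 0 := by
    rw [← cancel_mono (biprod.inr : _ ⟶ Bmod k α₂ α₃), h1, zero_comp]
  refine Finset.sum_eq_zero fun i _ => ?_
  have h3 := congrArg (· ≫ P1Split.proj (fun _ : Fin α₃ => O₀) i) h2
  simp only [Preadditive.sum_comp, zero_comp, Category.assoc] at h3
  rw [Finset.sum_eq_single i (fun j _ hj => by rw [P1Split.ι_proj_ne _ hj, comp_zero])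
    (fun h => absurd (Finset.mem_univ i) h), P1Split.ι_proj_self, Category.comp_id] at h3
  rw [h3, TensorProduct.zero_tmul]

/-- The backward direction. -/
theorem backward {F : (PP).Modules} (hF : Coh.IsCoh F) (h₀ : Subsingleton (HH ((D).tw F (-1)) 0))
    (h₂ : Subsingleton (HH ((D).tw F (-1)) 2)) (g₁ : Subsingleton (HH F 1))
    (hinj : Function.Injective (TensorProduct.lift
      (CategoryTheory.Linear.comp O₁ O₀ F : (O₁ ⟶ O₀) →ₗ[k] (O₀ ⟶ F) →ₗ[k] (O₁ ⟶ F)))) :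
    ∃ (α₁ α₂ α₃ : ℕ) (S : ShortComplex (PP).Modules), S.ShortExact ∧
      Nonempty (S.X₁ ≅ ∐ fun _ : Fin α₁ => O₂) ∧ Nonempty (S.X₂ ≅ Bmod k α₂ α₃) ∧ Nonempty (S.X₃ ≅ F) := by
  haveI := isNoetherian_PP k
  haveI : Module.Finite k (O₀ ⟶ F) := finite_hom ((D).inv 0) (pairIso₀ k) F (finite_tw k hF 0 0)
  haveI : Module.Finite k (O₁ ⟶ F) :=
    finite_hom ((D).inv 1) (pairIso k (-1) 1 (by norm_num)) F (finite_tw k hF 1 0)
  let μ := TensorProduct.lift
    (CategoryTheory.Linear.comp O₁ O₀ F : (O₁ ⟶ O₀) →ₗ[k] (O₀ ⟶ F) →ₗ[k] (O₁ ⟶ F))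
  obtain ⟨C, hC⟩ := Submodule.exists_isCompl (LinearMap.range μ)
  let bg := Module.finBasis k (O₀ ⟶ F)
  let bh := Module.finBasis k C
  let α₂ := Module.finrank k C
  let α₃ := Module.finrank k (O₀ ⟶ F)
  let φ₂ : (∐ fun _ : Fin α₂ => O₁) ⟶ F := Sigma.desc fun i => (bh i : O₁ ⟶ F)
  let φ₃ : (∐ fun _ : Fin α₃ => O₀) ⟶ F := Sigma.desc fun j => bg j
  let φ : Bmod k α₂ α₃ ⟶ F := biprod.desc φ₂ φ₃
  have surj₁ : ∀ f : O₁ ⟶ F, ∃ a, a ≫ φ = f := by
    let R : (O₁ ⟶ Bmod k α₂ α₃) →ₗ[k] (O₁ ⟶ F) := Linear.rightComp k O₁ φ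
    suffices ⊤ ≤ LinearMap.range R from fun f => this (Submodule.mem_top (x := f))
    rw [← hC.sup_eq_top]
    refine sup_le ?_ ?_
    · rintro _ ⟨t, rfl⟩
      induction t using TensorProduct.induction_on with
      | zero => rw [map_zero]; exact zero_mem _
      | add a b ha hb => rw [map_add]; exact add_mem ha hb
      | tmul x s =>
        rw [← bg.sum_repr s, TensorProduct.tmul_sum, map_sum]
        refine sum_mem fun j _ => ?_
        rw [TensorProduct.tmul_smul, map_smul]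
        refine Submodule.smul_mem _ _ ⟨x ≫ Sigma.ι (fun _ : Fin α₃ => O₀) j ≫ biprod.inr, ?_⟩
        show (x ≫ Sigma.ι (fun _ : Fin α₃ => O₀) j ≫ biprod.inr) ≫ φ = x ≫ bg j
        simp [φ, φ₃]
    · intro w hw
      have hsum : (∑ i, ((bh.repr ⟨w, hw⟩ i • bh i : C) : O₁ ⟶ F)) = w := by
        rw [← Submodule.coe_sum, bh.sum_repr]
      rw [← hsum]
      refine sum_mem fun i _ => ?_
      rw [Submodule.coe_smul]
      refine Submodule.smul_mem _ _ ⟨Sigma.ι (fun _ : Fin α₂ => O₁) i ≫ biprod.inl, ?_⟩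
      show (Sigma.ι (fun _ : Fin α₂ => O₁) i ≫ biprod.inl) ≫ φ = bh i
      simp [φ, φ₂]
  have inj₁ : ∀ f : O₁ ⟶ Bmod k α₂ α₃, f ≫ φ = 0 → f = 0 := by
    intro f hf
    obtain ⟨a, ha⟩ := hom_sum_smul k (finrank_O₁ k) (f ≫ biprod.fst)
    let ψ : Fin α₃ → (O₁ ⟶ O₀) := fun j => (f ≫ biprod.snd) ≫ P1Split.proj (fun _ : Fin α₃ => O₀) j
    have hb : f ≫ biprod.snd = ∑ j, ψ j ≫ Sigma.ι (fun _ : Fin α₃ => O₀) j := hom_sum k _
    let c : C := ∑ i, a i • bh i
    have e1 : (f ≫ biprod.fst) ≫ φ₂ = (c : O₁ ⟶ F) := by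
      rw [ha, Preadditive.sum_comp, Submodule.coe_sum]
      exact Finset.sum_congr rfl fun i _ => by rw [Linear.smul_comp, Submodule.coe_smul, Sigma.ι_desc]
    have e2 : (f ≫ biprod.snd) ≫ φ₃ = μ (∑ j, ψ j ⊗ₜ bg j) := by
      rw [hb, Preadditive.sum_comp, map_sum]
      refine Finset.sum_congr rfl fun j _ => ?_
      rw [Category.assoc, Sigma.ι_desc]
      rfl
    have e : (c : O₁ ⟶ F) + μ (∑ j, ψ j ⊗ₜ bg j) = 0 := by
      rw [← e1, ← e2, ← hf]
      conv_rhs => rw [← Category.comp_id f, ← biprod.total]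
      simp only [φ, Preadditive.add_comp, Preadditive.comp_add, Category.assoc, biprod.inl_desc, biprod.inr_desc]
    have hc0 : (c : O₁ ⟶ F) = 0 := by
      refine (Submodule.disjoint_def.1 hC.disjoint) _ ⟨-(∑ j, ψ j ⊗ₜ bg j), ?_⟩ c.2
      rw [map_neg, eq_neg_of_add_eq_zero_left e]
    have ht : (∑ j, ψ j ⊗ₜ[k] bg j) = 0 :=
      hinj (by rw [map_zero]; rw [hc0, zero_add] at e; exact e)
    have ha0 : ∀ i, a i = 0 :=
      Fintype.linearIndependent_iff.1 bh.linearIndependent a (show c = 0 from Subtype.ext hc0)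
    have hψ0 : ∀ j, ψ j = 0 := fun j => by
      have h := congrArg (TensorProduct.equivFinsuppOfBasisRight bg) ht
      rw [map_sum, map_zero] at h
      have h' := congrArg (fun v : Fin α₃ →₀ (O₁ ⟶ O₀) => v j) h
      simpa [Finsupp.finsetSum_apply, Finsupp.single_apply, ite_smul] using h'
    rw [← Category.comp_id f, ← biprod.total, Preadditive.comp_add, ← Category.assoc, ← Category.assoc, ha, hb,
      Finset.sum_eq_zero (fun i _ => by rw [ha0 i, zero_smul]), Finset.sum_eq_zero (fun i _ => by rw [hψ0 i, zero_comp]),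
      zero_comp, zero_comp, add_zero]
  have surj₀ : ∀ f : O₀ ⟶ F, ∃ a, a ≫ φ = f := fun f => by
    obtain ⟨a, ha⟩ := (bijective_basis k (finrank_O₀ k) bg).2 f
    exact ⟨a ≫ biprod.inr, by rw [Category.assoc, biprod.inr_desc]; exact ha⟩
  have inj₀ : ∀ f : O₀ ⟶ Bmod k α₂ α₃, f ≫ φ = 0 → f = 0 := fun f hf => by
    have hfst : f ≫ biprod.fst = 0 := (hom_O₀_O₁_sum k α₂).elim _ _
    have hf' : f = (f ≫ biprod.snd) ≫ biprod.inr := by
      conv_lhs => rw [← Category.comp_id f, ← biprod.total, Preadditive.comp_add, ← Category.assoc, hfst, zero_comp,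
        zero_add, ← Category.assoc]
    rw [hf', Category.assoc, biprod.inr_desc] at hf
    rw [hf', (bijective_basis k (finrank_O₀ k) bg).1 (hf.trans zero_comp.symm), zero_comp]
  have hregF : (D).IsReg F 1 := by
    rw [← CMReg18.isMRegular_iff k hF.1]
    intro i hi hi2
    obtain rfl | rfl : i = 1 ∨ i = 2 := by omega
    · rw [show (1 : ℤ) - ((1 : ℕ) : ℤ) = 0 by norm_num]
      exact CMReg18.van_iso k (twZero k F).symm g₁
    · rw [show (1 : ℤ) - ((2 : ℕ) : ℤ) = -1 by norm_num]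
      exact h₂
  haveI : Epi φ := epi_of_surjective_hom hF φ 1 hregF surj₁
  let S : ShortComplex (PP).Modules := ShortComplex.mk (kernel.ι φ) φ (kernel.condition φ)
  have hS : S.ShortExact := { exact := ShortComplex.exact_kernel φ }
  have hq : Coh.IsQCoh S.X₁ := M1.isQCoh_kernel (isCoh_B k α₂ α₃).1 hF.1 φ
  have hK : Coh.IsCoh S.X₁ := M1.isCoh_of_mono (kernel.ι φ) (isCoh_B k α₂ α₃) hq
  have k01 : Subsingleton (HH ((D).tw S.X₁ 1) 0) := by
    haveI : Subsingleton ((D).O (-1) ⟶ S.X₁) := subsingleton_of_forall_eq 0 fun f => by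
      rw [← cancel_mono (kernel.ι φ), zero_comp]
      exact inj₁ _ (by rw [Category.assoc, kernel.condition, comp_zero])
    exact (twSec k ((D).inv 1) (pairIso k (-1) 1 (by norm_num)) S.X₁).toEquiv.symm.subsingleton
  have k11 : Subsingleton (HH ((D).tw S.X₁ 1) 1) :=
    van_sub k ((D).shortExact_tw hS 1) 0 (van_B k α₂ α₃ 1 1 (by omega) (by omega))
      (surjective_hmap_of_hom ((D).inv 1) (pairIso k (-1) 1 (by norm_num)) φ surj₁)
  have k10 : Subsingleton (HH ((D).tw S.X₁ 0) 1) :=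
    van_sub k ((D).shortExact_tw hS 0) 0 (van_B k α₂ α₃ 0 1 (by omega) (by omega))
      (surjective_hmap_of_hom ((D).inv 0) (pairIso₀ k) φ surj₀)
  have k20 : Subsingleton (HH ((D).tw S.X₁ 0) 2) :=
    van_sub k ((D).shortExact_tw hS 0) 1 (van_B k α₂ α₃ 0 2 (by omega) (by omega))
      fun y => ⟨0, (CMReg18.van_iso k (twZero k F).symm g₁).elim _ _⟩
  have hregK : (D).IsReg S.X₁ 2 := by
    rw [← CMReg18.isMRegular_iff k hq]
    intro i hi hi2
    obtain rfl | rfl : i = 1 ∨ i = 2 := by omega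
    · rw [show (2 : ℤ) - ((1 : ℕ) : ℤ) = 1 by norm_num]
      exact k11
    · rw [show (2 : ℤ) - ((2 : ℕ) : ℤ) = 0 by norm_num]
      exact k20
  haveI : Module.Finite k (O₂ ⟶ S.X₁) :=
    finite_hom ((D).inv 2) (pairIso k (-2) 2 (by norm_num)) S.X₁ (finite_tw k hK 2 0)
  let bk := Module.finBasis k (O₂ ⟶ S.X₁)
  let ψ : (∐ fun _ : Fin (Module.finrank k (O₂ ⟶ S.X₁)) => O₂) ⟶ S.X₁ := Sigma.desc fun i => bk i
  haveI : Epi ψ := epi_of_surjective_hom hK ψ 2 hregK fun f => (bijective_basis k (finrank_O₂ k) bk).2 f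
  haveI : IsIso ψ := isIso_of_reg hK ψ
    (fun f hf => (bijective_basis k (finrank_O₂ k) bk).1 (hf.trans zero_comp.symm)) k01 k10
  exact ⟨_, α₂, α₃, S, hS, ⟨(asIso ψ).symm⟩, ⟨Iso.refl _⟩, ⟨Iso.refl _⟩⟩

end Groth.Agent.Gaeta11

end
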